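import Cfsg.Agent.Lib.CoreKill.Linked

/-!
Constrained centralisers of involutions and a connected Sylow 2-subgroup: trivial odd cores, or a strongly
embedded subgroup with nontrivial odd core.
-/

set_option autoImplicit false
set_option linter.style.haveILetI false

open scoped Pointwise

universe u

namespace Cfsg.Agent.CoreKill

open Subgroup Cfsg.Agent.Signalizer Cfsg.Agent.Signalizer.SFT Cfsg.Agent.SolvCores

variable {G : Type u} [Group G] [Finite G]

theorem Linked.dichotomy {S : Sylow 2 G} {V : Subgroup G} (h : Linked S V) (hO : Cfsg.oddCore G = ⊥)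
    (hcon : ∀ t : G, orderOf t = 2 → Cfsg.IsPConstrained 2 ↥(centralizer ({t} : Set G)))
    (hcs : ∀ t : G, orderOf t = 2 → Group.IsSolvable ↥(Cfsg.centralizerPPrimeCore 2 t)) :
    (∀ t : G, orderOf t = 2 → Cfsg.oddCore ↥(centralizer ({t} : Set G)) = ⊥) ∨
      ∃ H : Subgroup G, Cfsg.IsStronglyEmbedded H ∧ Cfsg.oddCore ↥H ≠ ⊥ := by
  classical
  haveI hp : Fact (Nat.Prime 2) := ⟨Nat.prime_two⟩
  let θ : G → Subgroup G := fun a => Cfsg.centralizerPPrimeCore 2 a
  have Θ : Equivariant 2 θ := equivariant_cores fun a ha =>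
    ⟨Components.isPConstrained_iff_pLayer.1 (hcon a ha.1), hcs a ha.1⟩
  have hV3 : 2 ^ 3 ≤ Nat.card V := h.card
  set W := thetaClosure θ V with hW
  have hWodd : ¬ 2 ∣ Nat.card ↥W := (iSup_props h.ea hV3 (Θ.functor h.ea hV3)).1.2.1
  -- the cores of the involutions of the Sylow subgroup
  have hθW : ∀ a ∈ (S : Subgroup G), orderOf a = 2 → θ a ≤ W := by
    intro a haS ha
    obtain ⟨E, haE, hE, hES, hE4⟩ := h.exists_four ha haS
    have ha1 : a ≠ 1 := fun h1 => by simp [h1] at ha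
    exact (le_iSup (fun b : {b : G // b ∈ E ∧ b ≠ 1} => θ b.1) ⟨a, haE, ha1⟩).trans
      (h.closure_const Θ hE hES hE4).le
  by_cases hW1 : W = ⊥
  · refine Or.inl fun t ht => ?_
    obtain ⟨g, -, hg⟩ := exists_conj_le (S := S) (H := ⊤) le_top
      (IsPGroup.of_card (n := 1) (p := 2) (by rw [Nat.card_zpowers, ht, pow_one] :
        Nat.card (zpowers t) = 2 ^ 1)) le_top
    have hgt : g * t * g⁻¹ ∈ (S : Subgroup G) := hg ⟨t, mem_zpowers t, rfl⟩
    have hbot : (θ t).map (MulAut.conj g).toMonoidHom = ⊥ := by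
      rw [← Θ.equiv t g (h.isDeep ht)]
      exact le_bot_iff.1 ((hθW _ hgt (by rw [Invol.order_conj, ht])).trans hW1.le)
    rw [map_eq_bot_iff_of_injective _ (MulAut.conj g).injective] at hbot
    exact (map_eq_bot_iff_of_injective _ (subtype_injective _)).1 hbot
  refine Or.inr ?_
  set H := normalizer (W : Set G) with hH
  have hHne : H ≠ ⊤ := fun htop => hW1 (le_bot_iff.1 ((FittingCores.le_pPrimeCore
    (normalizer_eq_top_iff.1 htop) (Nat.prime_two.coprime_iff_not_dvd.2 hWodd).symm).trans hO.le))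
  have hSH : (S : Subgroup G) ≤ H := by
    intro s hs
    rw [hH, mem_normalizer_iff_map_conj_eq]
    refine (Θ.closure_conj h.ea hV3 s).symm.trans ?_
    refine h.closure_const Θ (ea_map _ h.ea) ?_
      (by rw [card_map_of_injective (MulAut.conj s).injective]; exact le_trans (by norm_num) hV3)
    rintro _ ⟨v, hv, rfl⟩
    exact mul_mem (mul_mem hs (h.le hv)) (inv_mem hs)
  -- the closure is constant on `H`
  have hext : ∀ D ≤ H, Cfsg.IsElementaryAbelian 2 D → 4 ≤ Nat.card D →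
      thetaClosure θ D = W ∧ ∃ B, D ≤ B ∧ Cfsg.IsElementaryAbelian 2 B ∧ 8 ≤ Nat.card B := by
    intro D hDH hD hD4
    obtain ⟨g, hgH, hg⟩ := exists_conj_le hSH (ea_isPGroup hD) hDH
    obtain ⟨B, hDB, hB, hBS, hB8⟩ := h.exists_ext (ea_map _ hD) hg
      (by rw [card_map_of_injective (MulAut.conj g).injective]; exact hD4)
    have hB' := ea_map (MulAut.conj g⁻¹).toMonoidHom hB
    have hB'8 : 8 ≤ Nat.card ↥(B.map (MulAut.conj g⁻¹).toMonoidHom) := by
      rw [card_map_of_injective (MulAut.conj g⁻¹).injective]; exact hB8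
    have hDB' : D ≤ B.map (MulAut.conj g⁻¹).toMonoidHom := fun x hx =>
      ⟨_, hDB ⟨x, hx, rfl⟩, by simp [mul_assoc]⟩
    refine ⟨?_, _, hDB', hB', hB'8⟩
    rw [← Θ.closure_eq hD4 hDB' hB' hB'8, Θ.closure_conj hB hB8,
      h.closure_const Θ hB hBS ((show 4 ≤ 8 by norm_num).trans hB8)]
    exact (mem_normalizer_iff_map_conj_eq (H := W)).1 (inv_mem hgH)
  have key : ∀ D ≤ H, Cfsg.IsElementaryAbelian 2 D → 4 ≤ Nat.card D →
      ∀ g : G, D.map (MulAut.conj g).toMonoidHom ≤ H → g ∈ H := by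
    intro D hDH hD hD4 g hg
    obtain ⟨hDW, B, hDB, hB, hB8⟩ := hext D hDH hD hD4
    have hD4' : 4 ≤ Nat.card ↥(D.map (MulAut.conj g).toMonoidHom) := by
      rw [card_map_of_injective (MulAut.conj g).injective]; exact hD4
    have hB8' : 8 ≤ Nat.card ↥(B.map (MulAut.conj g).toMonoidHom) := by
      rw [card_map_of_injective (MulAut.conj g).injective]; exact hB8
    rw [hH, mem_normalizer_iff_map_conj_eq]
    show W.map (MulAut.conj g).toMonoidHom = W
    conv_rhs => rw [← (hext _ hg (ea_map _ hD) hD4').1,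
      ← Θ.closure_eq hD4' (map_mono hDB) (ea_map _ hB) hB8', Θ.closure_conj hB hB8,
      Θ.closure_eq hD4 hDB hB hB8, hDW]
  -- centralisers of involutions of the Sylow subgroup
  have hC : ∀ a ∈ (S : Subgroup G), orderOf a = 2 → centralizer ({a} : Set G) ≤ H := by
    intro a haS ha
    obtain ⟨E, haE, hE, hES, hE4⟩ := h.exists_four ha haS
    obtain ⟨B, hEB, hB, hBS, hB8⟩ := h.exists_ext hE hES hE4
    set K := centralizer ({a} : Set G) with hK
    have hBK : B ≤ K := ea_le_centralizer_singleton hB (hEB haE)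
    obtain ⟨T, hT⟩ := ((ea_isPGroup hB).comap_subtype (K := K)).exists_le_sylow
    set TG := (T : Subgroup ↥K).map K.subtype with hTG
    have hBT : B ≤ TG := fun b hb => ⟨⟨b, hBK hb⟩, hT hb, rfl⟩
    have hTH : TG ≤ H := by
      by_contra hnot
      have hlt : (H ⊓ TG).subgroupOf TG < ⊤ := by
        rw [lt_top_iff_ne_top, Ne, subgroupOf_eq_top]
        exact fun h1 => hnot (h1.trans inf_le_left)
      have hTp : IsPGroup 2 ↥TG := T.2.map K.subtype
      haveI := hTp.isNilpotent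
      obtain ⟨g, hg, hgn⟩ :=
        SetLike.exists_of_lt (Group.normalizerCondition_of_isNilpotent _ hlt)
      refine hgn ⟨key B (hBS.trans hSH) hB ((show 4 ≤ 8 by norm_num).trans hB8) g ?_, g.2⟩
      rintro _ ⟨b, hb, rfl⟩
      exact ((mem_normalizer_iff.1 hg ⟨b, hBT hb⟩).1 ⟨(hBS.trans hSH) hb, hBT hb⟩).1
    -- a four subgroup in `T ⊓ O_{2',2}`
    haveI := FittingCores.pPrimeCore_normal (G := ↥K) 2
    set N := Cfsg.pPrimeCore 2 ↥K with hN
    set Q := PPrimePC.coreH 2 (T : Subgroup ↥K) with hQ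
    set π := QuotientGroup.mk' N with hπ
    have hinj : ∀ R : Subgroup ↥K, IsPGroup 2 ↥R → ∀ x ∈ R, π x = 1 → x = 1 := by
      intro R hR x hx hx1
      have hxN : x ∈ N := (QuotientGroup.eq_one_iff x).1 hx1
      exact mem_bot.1 ((PBasic.inf_eq_bot_of_coprime (PBasic.pPrimeCore_coprime 2 ↥K) hR).le ⟨hxN, hx⟩)
    have hBK' : Cfsg.IsElementaryAbelian 2 (B.subgroupOf K) :=
      ⟨.of_setLike_mul_comm fun x hx y hy => Subtype.ext (ea_comm hB hx hy),
        fun x hx => Subtype.ext (by simpa using hB.2 (x : G) hx)⟩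
    have hB8' : 8 ≤ Nat.card ↥((B.subgroupOf K).map π) := by
      refine hB8.trans ?_
      rw [← Nat.card_congr (subgroupOfEquivOfLe hBK).toEquiv]
      refine Nat.card_le_card_of_injective (fun x => ⟨π x, ⟨x, x.2, rfl⟩⟩) fun x y hxy => ?_
      have hxy' : π (x : ↥K) = π y := congrArg Subtype.val hxy
      refine Subtype.ext (inv_mul_eq_one.1 (hinj _ (ea_isPGroup hBK') _ (mul_mem (inv_mem x.2) y.2) ?_))
      rw [map_mul, map_inv, hxy', inv_mul_cancel]
    obtain ⟨D, hDQ, hD, hD4⟩ := exists_four_pCore_of_le (X := ↥K ⧸ N)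
      (Components.isPConstrained_iff_charP.1 (hcon a ha)) (ea_map π hBK') hB8'
    set F := Q ⊓ D.comap π with hFdef
    have hQp : IsPGroup 2 ↥Q := T.2.to_le inf_le_left
    have hF : Cfsg.IsElementaryAbelian 2 F := by
      refine ⟨.of_setLike_mul_comm fun x hx y hy => ?_, fun x hx => ?_⟩
      · refine inv_mul_eq_one.1 (hinj Q hQp _ (mul_mem (inv_mem (mul_mem hx.1 hy.1)) (mul_mem hy.1 hx.1)) ?_)
        rw [map_mul, map_inv, map_mul, map_mul, ea_comm hD hx.2 hy.2, inv_mul_cancel]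
      · exact hinj Q hQp _ (pow_mem hx.1 2) (by rw [map_pow]; exact hD.2 _ hx.2)
    have hF4 : 4 ≤ Nat.card F := by
      refine hD4.trans (Nat.card_le_card_of_surjective (fun x : F => (⟨π x, x.2.2⟩ : D)) fun e => ?_)
      obtain ⟨k, hk⟩ := QuotientGroup.mk'_surjective N (e : ↥K ⧸ N)
      have hkP : k ∈ Cfsg.pPrimePCore 2 ↥K := by
        show π k ∈ Cfsg.pCore 2 (↥K ⧸ N)
        rw [hk]
        exact hDQ e.2
      obtain ⟨q, hq, o, ho, rfl⟩ := mem_sup_of_normal_right.1 (PPrimePC.pPrimePCore_le_sup T hkP)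
      have hqe : π q = e := by
        rw [← hk, map_mul, show QuotientGroup.mk' N o = 1 from (QuotientGroup.eq_one_iff o).2 ho, mul_one]
      exact ⟨⟨q, hq, by show π q ∈ D; rw [hqe]; exact e.2⟩, Subtype.ext hqe⟩
    have hFT : F.map K.subtype ≤ TG := map_mono (inf_le_left.trans inf_le_left)
    -- Frattini
    have hsup := congrArg (Subgroup.map K.subtype) (PPrimePC.normalizer_sup_eq_top T)
    rw [Subgroup.map_sup, ← MonoidHom.range_eq_map, range_subtype] at hsup
    refine hsup.ge.trans (sup_le ?_ ((hθW a haS ha).trans le_normalizer))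
    rintro _ ⟨g, hg, rfl⟩
    refine key (F.map K.subtype) (hFT.trans hTH) (ea_map _ hF)
      (by rw [card_map_of_injective K.subtype_injective]; exact hF4) _ ?_
    rintro _ ⟨_, ⟨x, hx, rfl⟩, rfl⟩
    exact hTH ⟨g * x * g⁻¹, ((mem_normalizer_iff.1 hg x).1 hx.1).1, rfl⟩
  -- strong embedding
  obtain ⟨t, htV, ht1⟩ : ∃ t ∈ V, t ≠ 1 := by
    by_contra! hall
    have := h.card
    rw [(eq_bot_iff_forall V).2 hall] at this
    simp at this
  refine ⟨H, Invol.se_of_centralizers hHne (S.subtype hSH)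
    (Invol.even_of_invol_mem (ea_orderOf h.ea htV ht1) (hSH (h.le htV))) ?_ ?_, fun hbot => hW1 ?_⟩
  · intro g hg
    refine key V (h.le.trans hSH) h.ea ((show 4 ≤ 8 by norm_num).trans h.card) g ?_
    rw [Sylow.coe_subtype, subgroupOf_map_subtype, inf_eq_left.2 hSH] at hg
    rintro _ ⟨v, hv, rfl⟩
    exact hSH ((mem_normalizer_iff.1 hg v).1 (h.le hv))
  · intro u huH hu
    obtain ⟨g, hgH, hg⟩ := exists_conj_le hSH (IsPGroup.of_card (n := 1) (p := 2)
      (by rw [Nat.card_zpowers, hu, pow_one] : Nat.card (zpowers u) = 2 ^ 1)) (zpowers_le.2 huH)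
    intro x hx
    have hx' : g * x * g⁻¹ ∈ centralizer ({g * u * g⁻¹} : Set G) := by
      rw [mem_centralizer_singleton_iff]
      have hxu := mem_centralizer_singleton_iff.1 hx
      calc g * x * g⁻¹ * (g * u * g⁻¹) = g * (x * u) * g⁻¹ := by group
        _ = g * (u * x) * g⁻¹ := by rw [hxu]
        _ = _ := by group
    have hmem := hC (g * u * g⁻¹) (hg ⟨u, mem_zpowers u, rfl⟩) (by rw [Invol.order_conj, hu]) hx'
    have := mul_mem (mul_mem (inv_mem hgH) hmem) hgH
    simpa [mul_assoc] using this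
  · have hle : W.subgroupOf H ≤ Cfsg.oddCore ↥H := by
      refine FittingCores.le_pPrimeCore ((normal_subgroupOf_iff_le_normalizer le_normalizer).2 le_rfl) ?_
      rw [Nat.card_congr (subgroupOfEquivOfLe le_normalizer).toEquiv]
      exact (Nat.prime_two.coprime_iff_not_dvd.2 hWodd).symm
    rw [hbot, le_bot_iff, subgroupOf_eq_bot] at hle
    exact disjoint_iff.1 hle ▸ (inf_eq_left.2 le_normalizer).symm

end Cfsg.Agent.CoreKill
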