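import Cfsg.Agent.Lib.SolvCores.Main
import Cfsg.Agent.Lib.Classification.ElemAb
import Cfsg.Agent.Lib.TwoGroups.NormalFour

/-!
A Sylow 2-subgroup of rank at least three with connected graph of four groups: every four group extends
to an elementary group of order eight and the closure of an equivariant functor is constant on it.
-/

set_option autoImplicit false
set_option linter.style.haveILetI false
set_option linter.unusedSectionVars false

universe u

namespace Cfsg.Agent.CoreKill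

open Subgroup Cfsg.Agent.Signalizer Cfsg.Agent.Signalizer.SFT

variable {G : Type u} [Group G] [Finite G]

/-- An elementary subgroup of order at least eight of a Sylow subgroup with connected graph of four groups. -/
structure Linked (S : Sylow 2 G) (V : Subgroup G) : Prop where
  ea : Cfsg.IsElementaryAbelian 2 V
  card : 8 ≤ Nat.card V
  le : V ≤ S
  conn : Cfsg.IsFourConnected ↥(S : Subgroup G)

theorem exists_linked (S : Sylow 2 G) (hS : Cfsg.IsFourConnected ↥(S : Subgroup G))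
    (h3 : ¬ Cfsg.PRankLE 2 2 G) : ∃ V, Linked S V := by
  haveI : Fact (Nat.Prime 2) := ⟨Nat.prime_two⟩
  simp only [Cfsg.PRankLE, not_forall, not_le] at h3
  obtain ⟨A, hAc, hA2, hA⟩ := h3
  have hAe : Cfsg.IsElementaryAbelian 2 A := ⟨hAc, hA2⟩
  obtain ⟨g, -, hg⟩ := SolvCores.exists_conj_le (S := S) (H := ⊤) le_top (ea_isPGroup hAe) le_top
  refine ⟨A.map (MulAut.conj g).toMonoidHom, SolvCores.ea_map _ hAe, ?_, hg, hS⟩
  rw [card_map_of_injective (MulAut.conj g).injective]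
  exact SolvCores.eight_le hAe (by omega)

theorem four_sub {X : Subgroup G} {S : Subgroup G} (hX : X ≤ S) (hX4 : IsKleinFour ↥X) :
    IsKleinFour ↥(X.subgroupOf S) := by
  obtain ⟨⟨hc, h2⟩, h4⟩ := ElemAb.isKleinFour_iff.1 hX4
  refine ElemAb.isKleinFour_iff.2 ⟨⟨⟨⟨fun x y => Subtype.ext (Subtype.ext ?_)⟩⟩,
    fun a ha => Subtype.ext (h2 _ (mem_subgroupOf.1 ha))⟩, ?_⟩
  · exact ElemAb.comm ⟨hc, h2⟩ (mem_subgroupOf.1 x.2) (mem_subgroupOf.1 y.2)
  · rw [Nat.card_congr (subgroupOfEquivOfLe hX).toEquiv, h4]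

theorem four_map {S : Subgroup G} {X : Subgroup S} (hX : IsKleinFour ↥X) : IsKleinFour ↥(X.map S.subtype) := by
  obtain ⟨hXe, h4⟩ := ElemAb.isKleinFour_iff.1 hX
  refine ElemAb.isKleinFour_iff.2 ⟨SolvCores.ea_map _ hXe, ?_⟩
  rw [card_map_of_injective S.subtype_injective, h4]

namespace Linked

variable {S : Sylow 2 G} {V : Subgroup G} (h : Linked S V)
include h

/-- Two four groups of the Sylow subgroup joined by a chain of commuting four groups. -/
theorem chain {P : Subgroup G → Prop} {U : Subgroup G} (hU : U ≤ S) (hU4 : IsKleinFour ↥U) (h0 : P U)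
    (hstep : ∀ A B : Subgroup G, A ≤ S → B ≤ S → IsKleinFour ↥A → IsKleinFour ↥B →
      (∀ a ∈ A, ∀ b ∈ B, a * b = b * a) → P A → P B)
    {W : Subgroup G} (hW : W ≤ S) (hW4 : IsKleinFour ↥W) : P W := by
  have key : ∀ X : Subgroup ↥(S : Subgroup G),
      Relation.ReflTransGen (fun A B : Subgroup ↥(S : Subgroup G) =>
        IsKleinFour A ∧ IsKleinFour B ∧ ∀ a ∈ A, ∀ b ∈ B, a * b = b * a) (U.subgroupOf S) X →
      P (X.map (S : Subgroup G).subtype) := by
    intro X hX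
    induction hX with
    | refl => rwa [map_subgroupOf_eq_of_le hU]
    | @tail A B _ hAB ih =>
      refine hstep _ _ (map_subtype_le _) (map_subtype_le _) (four_map hAB.1) (four_map hAB.2.1) ?_ ih
      rintro _ ⟨a, ha, rfl⟩ _ ⟨b, hb, rfl⟩
      rw [← map_mul, ← map_mul, hAB.2.2 a ha b hb]
  simpa [map_subgroupOf_eq_of_le hW] using key _ (h.conn _ _ (four_sub hU hU4) (four_sub hW hW4))

theorem exists_four_le {D : Subgroup G} (hD : Cfsg.IsElementaryAbelian 2 D) (h4 : 4 ≤ Nat.card D) :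
    ∃ U ≤ D, IsKleinFour ↥U := by
  obtain ⟨U, -, hUD, hU⟩ := ElemAb.exists_le_card hD bot_le 2 (by rw [card_bot]; norm_num) h4
  exact ⟨U, hUD, ElemAb.isKleinFour_iff.2 ⟨ea_mono hD hUD, hU⟩⟩

/-- Every four group extends to an elementary group of order at least eight. -/
theorem exists_ext {D : Subgroup G} (hD : Cfsg.IsElementaryAbelian 2 D) (hDS : D ≤ S)
    (h4 : 4 ≤ Nat.card D) :
    ∃ B, D ≤ B ∧ Cfsg.IsElementaryAbelian 2 B ∧ B ≤ (S : Subgroup G) ∧ 8 ≤ Nat.card B := by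
  rcases le_or_gt 5 (Nat.card D) with h5 | h5
  · exact ⟨D, le_rfl, hD, hDS, SolvCores.eight_le hD h5⟩
  by_contra hno
  have hD4 : IsKleinFour ↥D := ElemAb.isKleinFour_iff.2 ⟨hD, by omega⟩
  have heq : ∀ W : Subgroup G, W ≤ S → IsKleinFour ↥W → W = D := fun W hW hW4 =>
    h.chain (P := fun X => X = D) hDS hD4 rfl (fun A B hA hB hA4 hB4 hc hAD => by
      subst hAD
      obtain ⟨hBe, hBc⟩ := ElemAb.isKleinFour_iff.1 hB4
      by_contra hne
      have hlt : A < A ⊔ B := lt_of_le_of_ne le_sup_left fun he => hne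
        (Subgroup.eq_of_le_of_card_ge (he ▸ le_sup_right) (by omega))
      exact hno ⟨A ⊔ B, le_sup_left, ea_sup hD hBe hc, sup_le hA hB,
        SolvCores.card_ge_of_lt (k := 2) (ea_sup hD hBe hc) hlt h4⟩) hW hW4
  by_cases hDV : D ≤ V
  · exact hno ⟨V, hDV, h.ea, h.le, h.card⟩
  obtain ⟨U, hUV, hU⟩ := h.exists_four_le h.ea ((show 4 ≤ 8 by norm_num).trans h.card)
  exact hDV (heq U (hUV.trans h.le) hU ▸ hUV)

/-- An involution of the Sylow subgroup lies in an elementary subgroup of order at least four. -/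
theorem exists_four {a : G} (ha : orderOf a = 2) (haS : a ∈ (S : Subgroup G)) :
    ∃ E, a ∈ E ∧ Cfsg.IsElementaryAbelian 2 E ∧ E ≤ (S : Subgroup G) ∧ 4 ≤ Nat.card E := by
  haveI : Fact (Nat.Prime 2) := ⟨Nat.prime_two⟩
  have ha2 : a ^ 2 = 1 := ha ▸ pow_orderOf_eq_one a
  obtain ⟨⟨z, hzS⟩, -, hz, hzc⟩ := NormalFour.exists_central_mem S.isPGroup'
    (N := (⊤ : Subgroup ↥(S : Subgroup G))) fun e => by
      have h8 := card_le_of_le h.le
      have := h.card
      rw [← card_top (G := ↥(S : Subgroup G)), e, card_bot] at h8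
      omega
  rw [Subgroup.orderOf_mk] at hz
  have hcomm : ∀ s ∈ (S : Subgroup G), Commute s z := fun s hs =>
    congrArg Subtype.val (mem_center_iff.1 hzc ⟨s, hs⟩)
  have two : ∀ {b c : G}, b ^ 2 = 1 → c ^ 2 = 1 → b ≠ 1 → c ∉ zpowers b → Commute b c →
      Cfsg.IsElementaryAbelian 2 (zpowers b ⊔ zpowers c) ∧ 4 ≤ Nat.card ↥(zpowers b ⊔ zpowers c) := by
    intro b c hb hc hb1 hcb hbc
    have hE : Cfsg.IsElementaryAbelian 2 (zpowers b ⊔ zpowers c) :=
      ea_sup (SolvCores.ea_zpowers hb) (SolvCores.ea_zpowers hc) fun x hx y hy => by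
        obtain ⟨i, rfl⟩ := mem_zpowers_iff.1 hx
        obtain ⟨j, rfl⟩ := mem_zpowers_iff.1 hy
        exact (hbc.zpow_zpow i j).eq
    exact ⟨hE, SolvCores.pair_card hE hb1 hcb⟩
  have hz1 : z ≠ 1 := fun e => by rw [e, orderOf_one] at hz; omega
  have hz2 : z ^ 2 = 1 := hz ▸ pow_orderOf_eq_one z
  by_cases haz : a ∈ zpowers z
  · obtain ⟨v, hv, hvz⟩ : ∃ v ∈ V, v ∉ zpowers z := by
      by_contra! hall
      have := h.card.trans (card_le_of_le (show V ≤ zpowers z from hall))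
      rw [Nat.card_zpowers, hz] at this
      omega
    obtain ⟨h1, h2⟩ := two hz2 (h.ea.2 v hv) hz1 hvz (hcomm v (h.le hv)).symm
    exact ⟨_, mem_sup_left haz, h1, sup_le (zpowers_le.2 hzS) (zpowers_le.2 (h.le hv)), h2⟩
  · obtain ⟨h1, h2⟩ := two hz2 ha2 hz1 haz (hcomm a haS).symm
    exact ⟨_, mem_sup_right (mem_zpowers a), h1, sup_le (zpowers_le.2 hzS) (zpowers_le.2 haS), h2⟩

variable {θ : G → Subgroup G} (Θ : Equivariant 2 θ)
include Θ

theorem closure_four {U : Subgroup G} (hU : U ≤ S) (hU4 : IsKleinFour ↥U) {B : Subgroup G} (hUB : U ≤ B)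
    (hB : Cfsg.IsElementaryAbelian 2 B) (hB8 : 8 ≤ Nat.card B) :
    thetaClosure θ U = thetaClosure θ B := by
  haveI : Fact (Nat.Prime 2) := ⟨Nat.prime_two⟩
  exact (Θ.closure_eq (ElemAb.isKleinFour_iff.1 hU4).2.ge hUB hB hB8).symm

theorem closure_const {D : Subgroup G} (hD : Cfsg.IsElementaryAbelian 2 D) (hDS : D ≤ S)
    (h4 : 4 ≤ Nat.card D) : thetaClosure θ D = thetaClosure θ V := by
  haveI : Fact (Nat.Prime 2) := ⟨Nat.prime_two⟩
  obtain ⟨U, hUD, hU⟩ := h.exists_four_le hD h4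
  obtain ⟨W, hWV, hW⟩ := h.exists_four_le h.ea ((show 4 ≤ 8 by norm_num).trans h.card)
  obtain ⟨B, hDB, hB, -, hB8⟩ := h.exists_ext hD hDS h4
  rw [← Θ.closure_eq h4 hDB hB hB8, ← h.closure_four Θ (hUD.trans hDS) hU (hUD.trans hDB) hB hB8,
    ← h.closure_four Θ (hWV.trans h.le) hW hWV h.ea h.card]
  refine (h.chain (P := fun X => thetaClosure θ U = thetaClosure θ X) (hUD.trans hDS) hU rfl
    (fun A A' hA hA' hA4 hA4' hc hP => ?_) (hWV.trans h.le) hW)
  obtain ⟨hAe, hAc⟩ := ElemAb.isKleinFour_iff.1 hA4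
  obtain ⟨hA'e, -⟩ := ElemAb.isKleinFour_iff.1 hA4'
  obtain ⟨B', hle, hB', -, hB'8⟩ := h.exists_ext (ea_sup hAe hA'e hc) (sup_le hA hA')
    (hAc.ge.trans (card_le_of_le le_sup_left))
  rw [hP, h.closure_four Θ hA hA4 (le_sup_left.trans hle) hB' hB'8,
    h.closure_four Θ hA' hA4' (le_sup_right.trans hle) hB' hB'8]

omit Θ in
theorem isDeep {t : G} (ht : orderOf t = 2) : IsDeep 2 t := by
  haveI : Fact (Nat.Prime 2) := ⟨Nat.prime_two⟩
  obtain ⟨g, -, hg⟩ := SolvCores.exists_conj_le (S := S) (H := ⊤) le_top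
    (IsPGroup.of_card (n := 1) (p := 2) (by rw [Nat.card_zpowers, ht, pow_one] :
      Nat.card (zpowers t) = 2 ^ 1)) le_top
  have hgt : g * t * g⁻¹ ∈ (S : Subgroup G) := hg ⟨t, mem_zpowers t, rfl⟩
  obtain ⟨E, hE, hEe, hES, hE4⟩ := h.exists_four (a := g * t * g⁻¹) (by rw [Invol.order_conj, ht]) hgt
  obtain ⟨B, hEB, hB, -, hB8⟩ := h.exists_ext hEe hES hE4
  refine deep_of_mem (A := B.map (MulAut.conj g⁻¹).toMonoidHom) (SolvCores.ea_map _ hB)
    (by rw [card_map_of_injective (MulAut.conj g⁻¹).injective]; exact hB8)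
    ⟨_, hEB hE, by simp [mul_assoc]⟩ fun h1 => ?_
  rw [h1, orderOf_one] at ht
  exact absurd ht (by norm_num)

end Linked

end Cfsg.Agent.CoreKill
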